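import Mathlib
import Cfsg.Agent.Hall.Basic
import Cfsg.Agent.ZJ.NilpotentMaximal

/-!
Groups in which the centralisers of the non-central elements are maximal subgroups.
-/

set_option autoImplicit false

namespace CfsgLib.MaxCent

open scoped commutatorElement Pointwise

variable {G : Type*} [Group G]

/-- The centraliser of one element. -/
abbrev cent (x : G) : Subgroup G := Subgroup.centralizer ({x} : Set G)

theorem mem_cent {x g : G} : g ∈ cent x ↔ g * x = x * g := Subgroup.mem_centralizer_singleton_iff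

theorem center_le_cent (x : G) : Subgroup.center G ≤ cent x := fun _ hz =>
  mem_cent.2 (Subgroup.mem_center_iff.1 hz x).symm

theorem self_mem_cent (x : G) : x ∈ cent x := mem_cent.2 rfl

/-- All elements centralising the elements of `C` form a subgroup; `Ab C` says `C` is abelian. -/
def Ab (C : Subgroup G) : Prop := ∀ a ∈ C, ∀ b ∈ C, a * b = b * a

theorem cent_conj (g x : G) : cent (g * x * g⁻¹) = MulAut.conj g • cent x := by
  ext z
  rw [Subgroup.mem_pointwise_smul_iff_inv_smul_mem, mem_cent, mem_cent]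
  rw [MulAut.smul_def, ← map_inv, MulAut.conj_apply, inv_inv]
  constructor
  · intro h
    calc g⁻¹ * z * g * x = g⁻¹ * (z * (g * x * g⁻¹)) * g := by group
      _ = g⁻¹ * (g * x * g⁻¹ * z) * g := by rw [h]
      _ = x * (g⁻¹ * z * g) := by group
  · intro h
    calc z * (g * x * g⁻¹) = g * (g⁻¹ * z * g * x) * g⁻¹ := by group
      _ = g * (x * (g⁻¹ * z * g)) * g⁻¹ := by rw [h]
      _ = g * x * g⁻¹ * z := by group

theorem mem_conj_smul_iff {g z : G} {H : Subgroup G} : z ∈ MulAut.conj g • H ↔ g⁻¹ * z * g ∈ H := by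
  rw [Subgroup.mem_pointwise_smul_iff_inv_smul_mem, MulAut.smul_def, ← map_inv, MulAut.conj_apply, inv_inv]

theorem conj_mem_center {g z : G} : g * z * g⁻¹ ∈ Subgroup.center G ↔ z ∈ Subgroup.center G := by
  refine ⟨fun h => ?_, fun h => Subgroup.Normal.conj_mem inferInstance z h g⟩
  have := Subgroup.Normal.conj_mem inferInstance _ h g⁻¹
  simpa [mul_assoc] using this

theorem ab_conj {C : Subgroup G} (g : G) : Ab (MulAut.conj g • C) ↔ Ab C := by
  constructor
  · intro h a ha b hb
    have := h (g * a * g⁻¹) (mem_conj_smul_iff.2 (by simpa [mul_assoc] using ha)) (g * b * g⁻¹)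
      (mem_conj_smul_iff.2 (by simpa [mul_assoc] using hb))
    calc a * b = g⁻¹ * ((g * a * g⁻¹) * (g * b * g⁻¹)) * g := by group
      _ = g⁻¹ * ((g * b * g⁻¹) * (g * a * g⁻¹)) * g := by rw [this]
      _ = b * a := by group
  · intro h a ha b hb
    have := h _ (mem_conj_smul_iff.1 ha) _ (mem_conj_smul_iff.1 hb)
    calc a * b = g * ((g⁻¹ * a * g) * (g⁻¹ * b * g)) * g⁻¹ := by group
      _ = g * ((g⁻¹ * b * g) * (g⁻¹ * a * g)) * g⁻¹ := by rw [this]
      _ = b * a := by group

/-- Elements of `p`-power order. -/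
def IsPElem (p : ℕ) (x : G) : Prop := ∃ n, x ^ p ^ n = 1

theorem IsPElem.conj {p : ℕ} {x : G} (h : IsPElem p x) (g : G) : IsPElem p (g * x * g⁻¹) := by
  obtain ⟨n, hn⟩ := h
  exact ⟨n, by rw [conj_pow, hn, mul_one, mul_inv_cancel]⟩

theorem mem_of_two_pows {H : Subgroup G} {g : G} {m n : ℕ} (hmn : m.Coprime n) (h1 : g ^ m ∈ H) (h2 : g ^ n ∈ H) :
    g ∈ H := by
  have h : (m.gcdA n : ℤ) * m + (m.gcdB n : ℤ) * n = 1 := by
    have := Nat.gcd_eq_gcd_ab m n
    rw [hmn.gcd_eq_one] at this
    push_cast at this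
    linarith
  have h3 := H.mul_mem (H.zpow_mem h1 (m.gcdA n)) (H.zpow_mem h2 (m.gcdB n))
  rw [← zpow_natCast g m, ← zpow_natCast g n, ← zpow_mul, ← zpow_mul, ← zpow_add,
    show (m : ℤ) * m.gcdA n + n * m.gcdB n = 1 by linarith, zpow_one] at h3
  exact h3

/-- An element lies in a subgroup containing all its powers of prime power order. -/
theorem mem_of_parts [Finite G] {H : Subgroup G} {g : G}
    (h : ∀ p : ℕ, p.Prime → ∀ k : ℕ, IsPElem p (g ^ k) → g ^ k ∈ H) : g ∈ H := by
  set L : Subgroup G := H ⊓ Subgroup.zpowers g with hL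
  have hdvd : orderOf g ∣ Nat.card L := by
    rw [Nat.dvd_iff_prime_pow_dvd_dvd]
    intro p k hp hpk
    have hne : orderOf g ≠ 0 := (orderOf_pos g).ne'
    have ho : orderOf (g ^ (orderOf g / p ^ k)) = p ^ k := orderOf_pow_orderOf_div hne hpk
    rw [← ho]
    refine Subgroup.orderOf_dvd_natCard L ⟨h p hp _ ⟨k, ?_⟩, Subgroup.npow_mem_zpowers g _⟩
    exact orderOf_dvd_iff_pow_eq_one.1 ho.dvd
  have hLe : L = Subgroup.zpowers g := Subgroup.eq_of_le_of_card_ge inf_le_right (by
    rw [Nat.card_zpowers]; exact Nat.le_of_dvd Nat.card_pos hdvd)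
  exact (hLe.ge (Subgroup.mem_zpowers g)).1

variable [Finite G]

theorem exists_part {H : Subgroup G} {g : G} (hg : g ∉ H) :
    ∃ p : ℕ, p.Prime ∧ ∃ k : ℕ, IsPElem p (g ^ k) ∧ g ^ k ∉ H := by
  by_contra hcon
  push Not at hcon
  exact hg (mem_of_parts hcon)

/-- A normal maximal subgroup has prime index. -/
theorem prime_index {C : Subgroup G} [C.Normal] (hC : IsCoatom C) : C.index.Prime := by
  obtain ⟨r, hr, hrd⟩ := Nat.exists_prime_and_dvd (fun e => hC.1 (Subgroup.index_eq_one.1 e))
  haveI := Fact.mk hr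
  obtain ⟨e, he⟩ := exists_prime_orderOf_dvd_card' (G := G ⧸ C) r hrd
  set L := (Subgroup.zpowers e).comap (QuotientGroup.mk' C) with hL
  have hlt : C < L := by
    refine lt_of_le_of_ne (fun c hc => ?_) fun h => ?_
    · rw [hL, Subgroup.mem_comap, QuotientGroup.mk'_apply, (QuotientGroup.eq_one_iff c).2 hc]
      exact one_mem _
    · obtain ⟨e0, rfl⟩ := QuotientGroup.mk_surjective e
      have : e0 ∈ C := h.ge (Subgroup.mem_zpowers _)
      rw [(QuotientGroup.eq_one_iff e0).2 this, orderOf_one] at he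
      exact hr.ne_one he.symm
  have htop : Subgroup.zpowers e = ⊤ := by
    apply Subgroup.comap_injective (QuotientGroup.mk'_surjective C)
    rw [← hL, hC.2 L hlt, Subgroup.comap_top]
  have : C.index = r := by
    rw [Subgroup.index_eq_card, ← he, ← Nat.card_zpowers, htop, Subgroup.card_top]
  rwa [this]

theorem commutator_mem_of_normal {C : Subgroup G} [C.Normal] (hC : IsCoatom C) (a b : G) : ⁅a, b⁆ ∈ C := by
  haveI := Fact.mk (prime_index hC)
  haveI : IsCyclic (G ⧸ C) := isCyclic_of_prime_card (p := C.index) C.index_eq_card.symm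
  letI : CommGroup (G ⧸ C) := IsCyclic.commGroup
  rw [← QuotientGroup.eq_one_iff, commutatorElement_def]
  simp [mul_comm]

/-- The hypothesis. -/
def Hyp (G : Type*) [Group G] : Prop :=
  ∀ x : G, x ∉ Subgroup.center G → IsCoatom (cent x)

namespace Hyp

variable (h : Hyp G)
include h

theorem eq_of_le {x y : G} (hx : x ∉ Subgroup.center G) (hy : y ∉ Subgroup.center G) (hle : cent x ≤ cent y) :
    cent x = cent y := by
  rcases eq_or_lt_of_le hle with e | e
  · exact e
  · exact absurd ((h x hx).2 _ e) (h y hy).1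

theorem eq_of_ab {x y : G} (hx : x ∉ Subgroup.center G) (hy : y ∉ Subgroup.center G) (hab : Ab (cent x))
    (hyx : y ∈ cent x) : cent y = cent x :=
  (h.eq_of_le hx hy fun a ha => mem_cent.2 (hab a ha y hyx)).symm

theorem eq_of_coprime {p q : ℕ} (hp : p.Prime) (hq : q.Prime) (hpq : p ≠ q) {x y : G} (hx : IsPElem p x)
    (hy : IsPElem q y) (hxy : Commute x y) (hx' : x ∉ Subgroup.center G) (hy' : y ∉ Subgroup.center G) :
    cent x = cent y := by
  obtain ⟨a, ha⟩ := hx
  obtain ⟨b, hb⟩ := hy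
  have hcop : (p ^ a).Coprime (q ^ b) := ((Nat.coprime_primes hp hq).2 hpq).pow a b
  have hle : ∀ g ∈ cent (x * y), g ∈ cent x ∧ g ∈ cent y := by
    intro g hg
    have hc : Commute g (x * y) := mem_cent.1 hg
    constructor
    · have h1 : Commute g (x ^ q ^ b) := by
        have := hc.pow_right (q ^ b)
        rwa [hxy.mul_pow, hb, mul_one] at this
      have h2 : x ^ q ^ b ∈ Subgroup.centralizer ({g} : Set G) := mem_cent.2 h1.eq.symm
      have h3 : x ^ p ^ a ∈ Subgroup.centralizer ({g} : Set G) := by rw [ha]; exact one_mem _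
      exact mem_cent.2 (mem_cent.1 (mem_of_two_pows hcop h3 h2)).symm
    · have h1 : Commute g (y ^ p ^ a) := by
        have := hc.pow_right (p ^ a)
        rwa [hxy.mul_pow, ha, one_mul] at this
      have h2 : y ^ p ^ a ∈ Subgroup.centralizer ({g} : Set G) := mem_cent.2 h1.eq.symm
      have h3 : y ^ q ^ b ∈ Subgroup.centralizer ({g} : Set G) := by rw [hb]; exact one_mem _
      exact mem_cent.2 (mem_cent.1 (mem_of_two_pows hcop h2 h3)).symm
  have hxy' : x * y ∉ Subgroup.center G := fun hc => (h x hx').1 (eq_top_iff.2 fun g _ =>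
    (hle g (mem_cent.2 (Subgroup.mem_center_iff.1 hc g))).1)
  rw [← h.eq_of_le hxy' hx' fun g hg => (hle g hg).1, h.eq_of_le hxy' hy' fun g hg => (hle g hg).2]

theorem exists_pElem (x : G) (hx : x ∉ Subgroup.center G) :
    ∃ p : ℕ, p.Prime ∧ ∃ u : G, IsPElem p u ∧ u ∉ Subgroup.center G ∧ cent u = cent x := by
  obtain ⟨p, hp, k, hk, hkc⟩ := exists_part hx
  refine ⟨p, hp, x ^ k, hk, hkc, (h.eq_of_le hx hkc fun g hg => mem_cent.2 ?_).symm⟩
  exact ((show Commute g x from mem_cent.1 hg).pow_right k).eq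

/-- In a non-abelian centraliser of a `p`-element, the elements of other prime power order are central. -/
theorem mem_center_of_other {p q : ℕ} (hp : p.Prime) (hq : q.Prime) (hpq : q ≠ p) {x y : G} (hx : IsPElem p x)
    (hx' : x ∉ Subgroup.center G) (hab : ¬ Ab (cent x)) (hy : IsPElem q y) (hyx : y ∈ cent x) :
    y ∈ Subgroup.center G := by
  by_contra hy'
  have hxy : cent y = cent x := h.eq_of_coprime hq hp hpq hy hx (mem_cent.1 hyx) hy' hx'
  have hE : ∀ (r : ℕ), r.Prime → ∀ g : G, IsPElem r g → g ∈ cent x → ∀ b ∈ cent x, g * b = b * g := by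
    intro r hr g hg hgx b hb
    by_cases hgc : g ∈ Subgroup.center G
    · exact (Subgroup.mem_center_iff.1 hgc b).symm
    have hgx' : cent g = cent x := by
      by_cases hrp : r = p
      · refine (h.eq_of_coprime hr hq (by rw [hrp]; exact hpq.symm) hg hy ?_ hgc hy').trans hxy
        exact mem_cent.1 (hxy.ge hgx)
      · exact h.eq_of_coprime hr hp hrp hg hx (mem_cent.1 hgx) hgc hx'
    exact (mem_cent.1 (hgx'.ge hb)).symm
  refine hab fun a ha b hb => ?_
  exact mem_cent.1 (mem_of_parts (H := cent b) fun r hr k hk =>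
    mem_cent.2 (hE r hr _ hk ((cent x).pow_mem ha k) b hb))

/-- A non-abelian centraliser of a `p`-element is a `p`-group modulo the centre. -/
theorem pow_mem_center {p : ℕ} (hp : p.Prime) {x : G} (hx : IsPElem p x)
    (hx' : x ∉ Subgroup.center G) (hab : ¬ Ab (cent x)) {g : G} (hg : g ∈ cent x) :
    ∃ k, g ^ p ^ k ∈ Subgroup.center G := by
  obtain ⟨v, n, hn, hgn⟩ := Nat.exists_eq_pow_mul_and_not_dvd (orderOf_pos g).ne' p hp.ne_one
  refine ⟨v, mem_of_parts fun q hq k hk => ?_⟩
  by_cases hqp : q = p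
  · subst hqp
    obtain ⟨a, ha⟩ := hk
    have h1 : (g ^ q ^ v) ^ n = 1 := by rw [← pow_mul, ← hgn, pow_orderOf_eq_one]
    have h2 : ((g ^ q ^ v) ^ k) ^ n = 1 := by rw [← pow_mul, mul_comm, pow_mul, h1, one_pow]
    have h3 : (g ^ q ^ v) ^ k = 1 := orderOf_eq_one_iff.1 (Nat.eq_one_of_dvd_coprimes
      ((hp.coprime_iff_not_dvd.2 hn).pow_left a) (orderOf_dvd_of_pow_eq_one ha) (orderOf_dvd_of_pow_eq_one h2))
    rw [h3]
    exact one_mem _
  · exact h.mem_center_of_other hp hq hqp hx hx' hab hk ((cent x).pow_mem ((cent x).pow_mem hg _) k)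

end Hyp

theorem normalizer_eq {C : Subgroup G} (hC : IsCoatom C) (hn : ¬ C.Normal) :
    Subgroup.normalizer (C : Set G) = C := by
  rcases eq_or_lt_of_le (Subgroup.le_normalizer (H := C)) with e | e
  · exact e.symm
  · exact absurd (Subgroup.normalizer_eq_top_iff.1 (hC.2 _ e)) hn

theorem two_le_index {C : Subgroup G} (hC : IsCoatom C) : 2 ≤ C.index := by
  have h0 : C.index ≠ 0 := Subgroup.index_ne_zero_of_finite
  have h1 : C.index ≠ 1 := fun e => hC.1 (Subgroup.index_eq_one.1 e)
  omega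

/-- If the quotient by the centre is a `p`-group then the group is nilpotent. -/
theorem isNilpotent_of_pows {p : ℕ} (hp : p.Prime) (hall : ∀ g : G, ∃ k, g ^ p ^ k ∈ Subgroup.center G) :
    Group.IsNilpotent G := by
  haveI := Fact.mk hp
  have hQ : IsPGroup p (G ⧸ Subgroup.center G) := fun e => by
    obtain ⟨g, rfl⟩ := QuotientGroup.mk_surjective e
    obtain ⟨k, hk⟩ := hall g
    exact ⟨k, by rw [← QuotientGroup.mk_pow]; exact (QuotientGroup.eq_one_iff _).2 hk⟩
  haveI := hQ.isNilpotent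
  exact Subgroup.isNilpotent_of_ker_le_center (QuotientGroup.mk' (Subgroup.center G)) (by rw [QuotientGroup.ker_mk'])

/-- Pull out the largest `p`-power index of a `p`-group which is its own normaliser. -/
theorem not_dvd_index_of_selfNormalizing {p : ℕ} [Fact p.Prime] {H : Subgroup G} (hH : IsPGroup p H)
    (hN : Subgroup.normalizer (H : Set G) = H) : ¬ p ∣ H.index := by
  intro hd
  obtain ⟨n, hn⟩ := hH.exists_card_eq
  have hdvd : p ^ (n + 1) ∣ Nat.card G := by
    rw [← H.card_mul_index, hn, pow_succ]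
    exact mul_dvd_mul_left _ hd
  have h2 := Sylow.prime_pow_dvd_card_normalizer hdvd hn
  rw [hN, hn] at h2
  have := (Nat.pow_dvd_pow_iff_le_right (Fact.out : p.Prime).one_lt).1 h2
  omega

end CfsgLib.MaxCent
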